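import Cfsg.Agent.Lib.PcIso.Basic
import Cfsg.Prelude.Def_Classical
import Mathlib

/-!
# The Sylow `2`-subgroups of `S₈` and `O₆⁻(2)`: data
-/

set_option autoImplicit false

namespace Cfsg.Agent.Lib.PcIso.S8O6

open Cfsg.Agent.Lib.PcIso

/-- A permutation from its tables. -/
def mkP (f g : Fin 8 → Fin 8) (h1 : ∀ x, g (f x) = x := by decide) (h2 : ∀ x, f (g x) = x := by decide) :
    Equiv.Perm (Fin 8) := ⟨f, g, h1, h2⟩

/-- The permutations. -/
def pS : Fin 7 → Equiv.Perm (Fin 8) := ![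
  mkP ![0,1,2,3,4,5,7,6] ![0,1,2,3,4,5,7,6],
  mkP ![0,1,2,3,5,4,6,7] ![0,1,2,3,5,4,6,7],
  mkP ![0,1,3,2,4,5,6,7] ![0,1,3,2,4,5,6,7],
  mkP ![1,0,2,3,4,5,6,7] ![1,0,2,3,4,5,6,7],
  mkP ![3,2,0,1,4,5,6,7] ![2,3,1,0,4,5,6,7],
  mkP ![0,1,2,3,6,7,4,5] ![0,1,2,3,6,7,4,5],
  mkP ![7,6,5,4,0,1,2,3] ![4,5,6,7,3,2,1,0]]

/-- Squares. -/
def w2S : Fin 7 → List (Fin 7) := ![[], [], [], [], [2,3], [], [0,1,3,4,5]]

/-- Conjugates. -/
def wcS : Fin 7 → Fin 7 → List (Fin 7) := ![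
  ![[], [], [], [], [], [], []],
  ![[0], [], [], [], [], [], []],
  ![[0], [1], [], [], [], [], []],
  ![[0], [1], [2], [], [], [], []],
  ![[0], [1], [3], [2], [], [], []],
  ![[1], [0], [2], [3], [4], [], []],
  ![[2], [3], [1], [0], [1,5], [2,4], []]]

/-- The columns of the isometries, as bit masks. -/
def colsM : Fin 7 → Fin 6 → ℕ := ![![1,3,45,8,17,32], ![1,3,15,9,16,32], ![1,3,29,8,16,33], ![1,3,61,8,17,33], ![1,3,29,8,49,33], ![1,2,39,43,51,32], ![1,2,23,58,49,35]]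

/-- The columns of the inverses, as bit masks. -/
def colsI : Fin 7 → Fin 6 → ℕ := ![![1,3,45,8,17,32], ![1,3,15,9,16,32], ![1,3,29,8,16,33], ![1,3,61,8,17,33], ![1,3,61,8,48,33], ![1,2,39,43,51,32], ![1,2,53,27,50,35]]

/-- The index type. -/
abbrev Idx := (Fin 2 ⊕ Fin 2) ⊕ Fin 2

/-- The numbering of the index type. -/
def toI : Idx → Fin 6 :=
  Sum.elim (Sum.elim (fun i => ⟨i, by omega⟩) (fun i => ⟨i + 2, by omega⟩)) (fun i => ⟨i + 4, by omega⟩)

/-- The matrix with the given columns. -/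
def matM (c : Fin 6 → ℕ) : Matrix Idx Idx (ZMod 2) :=
  Matrix.of fun i j => if (c (toI j)).testBit (toI i) then 1 else 0

theorem hr1 : ∀ k : Fin 7, matM (colsM k) * matM (colsI k) = 1 := by decide +kernel

theorem hr2 : ∀ k : Fin 7, matM (colsI k) * matM (colsM k) = 1 := by decide +kernel

/-- The elements of the general linear group. -/
def gM (k : Fin 7) : Matrix.GeneralLinearGroup Idx (ZMod 2) := ⟨matM (colsM k), matM (colsI k), hr1 k, hr2 k⟩

theorem rel2Y : ∀ k : Fin 7, gM k * gM k = ((w2S k).map gM).prod := by decide +kernel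

theorem relcY : ∀ k j : Fin 7, j < k → gM k * gM j = ((wcS k j).map gM).prod * gM k := by decide +kernel

theorem rel2X : ∀ k : Fin 7, pS k * pS k = ((w2S k).map pS).prod := by decide +kernel

theorem relcX : ∀ k j : Fin 7, j < k → pS k * pS j = ((wcS k j).map pS).prod * pS k := by decide +kernel

theorem hw2 : ∀ k : Fin 7, ∀ i ∈ w2S k, i < k := by decide +kernel

theorem hwc : ∀ k j : Fin 7, j < k → ∀ i ∈ wcS k j, i < k := by decide +kernel

theorem wordX : ∀ m, m < 2 ^ 7 → ∀ m', m' < m → word pS m ≠ word pS m' := by decide +kernel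

theorem wordY' : ∀ m, m < 2 ^ 7 → (m = 0 ∨ (word gM m).val ≠ 1) := by decide +kernel

theorem isoM : ∀ k : Fin 7, ∀ u : Idx → ZMod 2,
    Cfsg.quadFormMinus 2 (ZMod 2) 1 1 (Matrix.mulVec (matM (colsM k)) u) = Cfsg.quadFormMinus 2 (ZMod 2) 1 1 u := by
  decide +kernel

end Cfsg.Agent.Lib.PcIso.S8O6
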